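import Groth.Agent.H10Coh.SheafHom.Adj
import Groth.Agent.H10Coh.ExtMap
import Groth.Agent.H10Coh.SchemeH
import Groth.Agent.H10Coh.ModGroth
import Groth.Agent.H15Site.ModExtH
import Groth.Agent.H15Site.Invertible
import Groth.Agent.H29Omega.ConormalStalk
import Groth.Agent.H29Ref.EvalStalk
import Groth.Agent.H8Props.FinLocFree.Global
import Groth.Agent.H16Derived.KFlat.FinLocFree
import Groth.Agent.H16Derived.KFlat.FlatIff
import Groth.Prelude.Def_KLin
import Mathlib.Algebra.Homology.DerivedCategory.Ext.Linear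

/-!
# `Ext^n(F, M) = H^n(X, Hom(F, M))` for finite locally free `F`, linearly
-/

set_option autoImplicit false
set_option linter.style.haveILetI false
set_option synthInstance.maxHeartbeats 800000
set_option maxHeartbeats 1600000
set_option backward.isDefEq.respectTransparency false

universe u

open CategoryTheory CategoryTheory.Limits CategoryTheory.Abelian AlgebraicGeometry Opposite TopologicalSpace

namespace Groth.Agent.H17.PnExt

open Groth.Agent.H10Coh.SheafHom Groth.Agent.H16Derived.KFlat.Stalk Groth.Agent.H29Ref Groth.Agent.H06Mod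

variable {X : Scheme.{u}} (F : X.Modules) [DCoh.HasSheafHom F]

/-- Postcomposition on the sheaves of families of stalk maps. -/
noncomputable def post {E Q : X.Modules} (π : E ⟶ Q) : RefHull.homSh F E ⟶ RefHull.homSh F Q :=
  curry (uncurry (𝟙 (RefHull.homSh F E)) ≫ π)

theorem post_apply {E Q : X.Modules} (π : E ⟶ Q) (V : X.Opens) (f : Γ(RefHull.homSh F E, V)) (y : V)
    (v : F.presheaf.stalk y.1) :
    ((post F π).app V f).1 y v = stalkLin π y.1 (f.1 y v) := by
  obtain ⟨W, hW, m, rfl⟩ := TopCat.Presheaf.exists_germ_eq F.presheaf v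
  rw [← F.presheaf.germ_res_apply (homOfLE (inf_le_left : W ⊓ V ≤ W)) y.1 ⟨hW, y.2⟩]
  generalize F.presheaf.map (homOfLE (inf_le_left : W ⊓ V ≤ W)).op m = m'
  rw [post, curry_app, curryFun_apply, ← (RefHull.homSh F E).presheaf.germ_res_apply
    (homOfLE (inf_le_right : W ⊓ V ≤ V)) y.1 ⟨hW, y.2⟩, pair_germ, RefHull.stalkMapₗ_germ,
    Scheme.Modules.Hom.comp_app, ConcreteCategory.comp_apply, uncurry_tensorSect]
  refine Eq.trans ?_ (congrArg (stalkLin π y.1)
    (germ_toLin ((RefHull.homSh F E).presheaf.map (homOfLE (inf_le_right : W ⊓ V ≤ V)).op f) m' ⟨y.1, ⟨hW, y.2⟩⟩))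
  rw [stalkLin_germ]
  rfl

theorem post_eq {E Q : X.Modules} (π : E ⟶ Q) :
    post F π = (homShIso F E).inv ≫ (DCoh.sheafHom F).map π ≫ (homShIso F Q).hom := by
  let adj := DCoh.sheafHomAdj F
  have h1 : (homShIso F E).inv = adj.homEquiv _ _ (uncurry (𝟙 (RefHull.homSh F E))) := rfl
  have h2 : (homShIso F Q).hom = curry ((adj.homEquiv _ _).symm (𝟙 ((DCoh.sheafHom F).obj Q))) := rfl
  rw [h1, h2, ← Category.assoc, ← curry_natural, ← Adjunction.homEquiv_naturality_right,
    ← Adjunction.homEquiv_naturality_left_symm, Category.comp_id, Equiv.symm_apply_apply]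
  rfl

variable {F}

theorem preservesEpimorphisms_sheafHom (hF : FlatMod.IsFinLocFree F) : (DCoh.sheafHom F).PreservesEpimorphisms := by
  refine ⟨fun {E Q} π _ => ?_⟩
  haveI : Epi (post F π) := by
    refine H29Omega.epi_of_surjective_stalkLin _ fun x θ => ?_
    have hFP := H8Props.FinLocFree.isFP_of_isFinLocFree F hF
    haveI := H8Props.FinLocFree.free_stalk F hF x
    have hπ : Function.Surjective (stalkLin π x) := by
      have h1 : Epi ((SheafOfModules.toSheaf.{u} X.ringCatSheaf).map π) := by
        haveI := H10Coh.preservesFiniteColimits_toSheaf X.ringCatSheaf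
        infer_instance
      exact (TopCat.Presheaf.locally_surjective_iff_surjective_on_stalks π.mapPresheaf).1
        ((Sheaf.isLocallySurjective_iff_epi' (A := AddCommGrpCat.{u})
          ((SheafOfModules.toSheaf.{u} X.ringCatSheaf).map π)).2 h1) x
    obtain ⟨g, hg⟩ := Module.projective_lifting_property (stalkLin π x) (RefHull.evalStalk F Q x θ) hπ
    obtain ⟨θ', hθ'⟩ := (evalStalk_bijective F E hFP x).2 g
    refine ⟨θ', (evalStalk_bijective F Q hFP x).1 ?_⟩
    rw [← hg, ← hθ']
    obtain ⟨V, hV, f, rfl⟩ := TopCat.Presheaf.exists_germ_eq (RefHull.homSh F E).presheaf θ'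
    rw [stalkLin_germ, RefHull.evalStalk_germ, RefHull.evalStalk_germ]
    exact LinearMap.ext fun v => post_apply F π V f ⟨x, hV⟩ v
  have e : (DCoh.sheafHom F).map π = (homShIso F E).hom ≫ post F π ≫ (homShIso F Q).inv := by
    rw [post_eq]; simp
  rw [e]
  infer_instance

theorem preservesFiniteColimits_sheafHom (hF : FlatMod.IsFinLocFree F) :
    PreservesFiniteColimits (DCoh.sheafHom F) := by
  haveI := (DCoh.sheafHomAdj F).rightAdjoint_preservesLimits
  haveI := (DCoh.sheafHomAdj F).isRightAdjoint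
  haveI := preservesEpimorphisms_sheafHom hF
  haveI : (DCoh.sheafHom F).Additive := Functor.additive_of_preserves_binary_products _
  have := ((DCoh.sheafHom F).preservesFiniteColimits_iff_forall_exact_map_and_epi).2
  refine this fun S hS => ?_
  haveI := hS.mono_f
  haveI := hS.epi_g
  exact ⟨((hS.exact.map_of_mono_of_preservesKernel (DCoh.sheafHom F) inferInstance inferInstance)),
    inferInstance⟩

theorem preservesMonomorphisms_tensor (hF : FlatMod.IsFinLocFree F) :
    ((DCoh.tensorBi (X := X)).obj F).PreservesMonomorphisms := by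
  refine ⟨fun {A B} g _ => ?_⟩
  have h : (ShortComplex.mk g (cokernel.π g) (cokernel.condition g)).ShortExact :=
    { exact := ShortComplex.exact_of_g_is_cokernel _ (cokernelIsCokernel g) }
  have e : (DCoh.tensorBi (X := X)).flip.obj F ≅ (DCoh.tensorBi (X := X)).obj F :=
    (H15Site.ModTensor.tLIso (O := X.sheaf) F).symm
  haveI : Mono (((DCoh.tensorBi (X := X)).flip.obj F).map g) :=
    ((isFlat_iff_isFlatObj F).1 (isFlat_of_isFinLocFree hF) _ h).mono_f
  exact (MorphismProperty.monomorphisms X.Modules).arrow_mk_iso_iff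
    ((Functor.mapArrowFunctor _ _).mapIso e |>.app (Arrow.mk g)) |>.1 this

section linear

variable {k : Type u} [CommRing k] [X.Over (Spec (CommRingCat.of k))]

theorem tensor_map_smulMod (F : X.Modules) (a : k) (N : X.Modules) :
    ((DCoh.tensorBi (X := X)).obj F).map (Formal.smulMod k N a) =
      Formal.smulMod k (CohB1.tensorMod F N) a := by
  refine tensor_ext fun U m n => ?_
  refine (map_tensorSect _ U m n).trans ?_
  refine (congrArg (tensorSect U m) (KLin.smulModΓ_app_apply N _ U n)).trans ?_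
  exact (tensorSect_smul_right _ m n).trans (KLin.smulModΓ_app_apply (CohB1.tensorMod F N) _ U _).symm

theorem sheafHom_map_smulMod (a : k) (M : X.Modules) :
    (DCoh.sheafHom F).map (Formal.smulMod k M a) = Formal.smulMod k ((DCoh.sheafHom F).obj M) a := by
  let adj := DCoh.sheafHomAdj F
  apply (adj.homEquiv _ _).symm.injective
  rw [← Category.id_comp ((DCoh.sheafHom F).map (Formal.smulMod k M a)), adj.homEquiv_naturality_right_symm,
    ← Category.comp_id (Formal.smulMod k ((DCoh.sheafHom F).obj M) a), adj.homEquiv_naturality_left_symm,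
    tensor_map_smulMod]
  exact KLin.comp_smulModΓ _ _

end linear

/-- The universal section of `Hom(F, F)`. -/
theorem exists_unitSection (hF : FlatMod.IsFinLocFree F) :
    ∃ e : (constantSheaf (Opens.grothendieckTopology X) AddCommGrpCat.{u}).obj
        (AddCommGrpCat.of (ULift.{u} ℤ)) ⟶ (DCoh.sheafHom F ⋙ SheafOfModules.toSheaf X.ringCatSheaf).obj F,
      ∀ M : X.Modules, Function.Bijective fun φ : F ⟶ M =>
        e ≫ (DCoh.sheafHom F ⋙ SheafOfModules.toSheaf X.ringCatSheaf).map φ := by
  let adj := DCoh.sheafHomAdj F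
  let r : ((DCoh.tensorBi (X := X)).obj F).obj (Coh.structureModule X) ≅ F :=
    H15Site.Invertible.symmIso (O := X.sheaf) F (Coh.structureModule X) ≪≫
      (H15Site.ModOver.tensorUnitIso X.sheaf).app F
  let u₀ := adj.homEquiv _ _ r.hom
  refine ⟨H15Site.ModExtH.oneHom X.ringCatSheaf ≫ (SheafOfModules.toSheaf X.ringCatSheaf).map u₀, fun M => ?_⟩
  have h : Function.Bijective fun φ : F ⟶ M => adj.homEquiv _ _ (r.hom ≫ φ) :=
    (adj.homEquiv _ _).bijective.comp ⟨fun a b hab => (cancel_epi r.hom).1 hab, fun ψ => ⟨r.inv ≫ ψ, by simp⟩⟩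
  have hb := (H15Site.ModExtH.bijective_oneHom X.ringCatSheaf ((DCoh.sheafHom F).obj M)).comp h
  refine (congrArg Function.Bijective (funext fun φ => ?_)).mp hb
  dsimp only [Function.comp_apply]
  rw [Adjunction.homEquiv_naturality_right]
  change _ ≫ (SheafOfModules.toSheaf X.ringCatSheaf).map (u₀ ≫ (DCoh.sheafHom F).map φ) = _
  rw [Functor.map_comp, ← Category.assoc]
  rfl

/-- `Ext^n(F, M) = H^n(X, Hom(F, M))` linearly, for finite locally free `F`. -/
theorem nonempty_ext_linearEquiv (k : Type u) [CommRing k] [X.Over (Spec (CommRingCat.of k))]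
    [HasExt.{u} X.Modules] (hF : FlatMod.IsFinLocFree F) (M : X.Modules) (n : ℕ) :
    Nonempty (Ext.{u} F M n ≃ₗ[k] Coh.HH X ((DCoh.sheafHom F).obj M) n) := by
  haveI := H10Coh.preservesFiniteColimits_toSheaf X.ringCatSheaf
  haveI := preservesFiniteColimits_sheafHom hF
  haveI := (DCoh.sheafHomAdj F).rightAdjoint_preservesLimits
  haveI := (DCoh.sheafHomAdj F).isRightAdjoint
  haveI := preservesMonomorphisms_tensor hF
  haveI : (DCoh.sheafHom F).Additive := Functor.additive_of_preserves_binary_products _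
  haveI : IsGrothendieckAbelian.{u} X.Modules := H10Coh.isGrothendieckAbelian_sheafOfModules _
  haveI : EnoughInjectives X.Modules := inferInstance
  haveI : HasExt.{u} (SheafOfModules.{u} X.ringCatSheaf) := ‹HasExt.{u} X.Modules›
  obtain ⟨e, he⟩ := exists_unitSection hF
  let G := DCoh.sheafHom F ⋙ SheafOfModules.toSheaf X.ringCatSheaf
  haveI hta : (SheafOfModules.toSheaf.{u} X.ringCatSheaf).Additive := inferInstance
  haveI hG : G.Additive := ⟨fun {A B} {f g} => by
    change (SheafOfModules.toSheaf X.ringCatSheaf).map ((DCoh.sheafHom F).map (f + g)) = _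
    rw [Functor.map_add, Functor.map_add]; rfl⟩
  haveI : PreservesFiniteLimits (SheafOfModules.toSheaf.{u} X.ringCatSheaf) :=
    inferInstanceAs (PreservesFiniteLimits (H10Coh.shF X))
  haveI : PreservesFiniteLimits G := comp_preservesFiniteLimits _ _
  haveI : PreservesFiniteColimits G := comp_preservesFiniteColimits _ _
  have hJ : ∀ (J : X.Modules) [Injective J] (m : ℕ), Subsingleton (Ext.{u}
      ((constantSheaf (Opens.grothendieckTopology X) AddCommGrpCat.{u}).obj (AddCommGrpCat.of (ULift.{u} ℤ)))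
      (G.obj J) (m + 1)) := fun J _ m =>
    haveI : Injective ((DCoh.sheafHom F).obj J) := Injective.injective_of_adjoint (DCoh.sheafHomAdj F) J
    H15Site.ModInjAcyclic.subsingleton_ext X.ringCatSheaf ((DCoh.sheafHom F).obj J) m _
      H15Site.ModExtH.tf_constZ
  let E := H10Coh.extMapEquiv G e he hJ n M
  refine ⟨{ E with map_smul' := fun a x => ?_ }⟩
  change H10Coh.extMap G e M n (a • x) = a • (show Coh.HH X ((DCoh.sheafHom F).obj M) n from H10Coh.extMap G e M n x)
  rw [Ext.smul_eq_comp_mk₀, KLin.smul_id, H10Coh.extMap_naturality]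
  change Ext.comp _ (Ext.mk₀ ((SheafOfModules.toSheaf X.ringCatSheaf).map
    ((DCoh.sheafHom F).map (Formal.smulMod k M a)))) _ = _
  rw [sheafHom_map_smulMod]
  rfl

end Groth.Agent.H17.PnExt
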