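import Groth.Agent.H29Serre.Duality
import Groth.Prelude.Def_KLin
import Mathlib.Algebra.Homology.DerivedCategory.Ext.Linear
import Mathlib.LinearAlgebra.Dual.Lemmas
import Mathlib.LinearAlgebra.Isomorphisms

/-!
# Ext duality from duality in the top degree and effacement
-/

set_option autoImplicit false
set_option linter.style.haveILetI false

universe u

open CategoryTheory CategoryTheory.Limits CategoryTheory.Abelian AlgebraicGeometry Opposite
open Groth.Agent.H10Coh

namespace Groth.Agent.H17.PnExt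

attribute [local instance 10000] hasSheafifyAb hasWeakSheafifyAb hasExtAb enoughInjAb

section linear

variable {A : Type u} [CommRing A] {M N P : Type u} [AddCommGroup M] [Module A M] [AddCommGroup N] [Module A N]
  [AddCommGroup P] [Module A P]

/-- Two surjections with the same kernel have isomorphic targets. -/
theorem nonempty_equiv_of_ker (f : M →ₗ[A] N) (g : M →ₗ[A] P) (hf : Function.Surjective f)
    (hg : Function.Surjective g) (h : ∀ x, f x = 0 ↔ g x = 0) : Nonempty (N ≃ₗ[A] P) := by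
  have hker : LinearMap.ker f = LinearMap.ker g := Submodule.ext fun x => by simpa using h x
  exact ⟨(f.quotKerEquivOfSurjective hf).symm.trans ((Submodule.quotEquivOfEq _ _ hker).trans
    (g.quotKerEquivOfSurjective hg))⟩

end linear

variable {k : Type u} [Field k] {X : Scheme.{u}} [X.Over (Spec (CommRingCat.of k))] {n : ℕ} {ω : X.Modules}
  {S : ShortComplex X.Modules} (hS : S.ShortExact)

theorem shF_smulMod (F : X.Modules) (a : k) :
    (shF X).map (Formal.smulMod k F a) = Coh.smulAb F (Coh.toGlobal (X ↘ Spec (CommRingCat.of k)) a) := rfl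

theorem HHlin_smul {F G : X.Modules} (a : k) (φ : F ⟶ G) (q : ℕ) :
    Canon.HHlin k (a • φ) q = a • Canon.HHlin k φ q := by
  rw [KLin.smul_def, H29Serre.lin_comp]
  refine LinearMap.ext fun x => ?_
  rw [LinearMap.comp_apply, LinearMap.smul_apply, ← map_smul]
  rfl

/-- The duality map `φ ↦ t ∘ H^n(φ)`. -/
noncomputable def pair (t : Coh.HH X ω n →ₗ[k] k) (F : X.Modules) :
    (F ⟶ ω) →ₗ[k] Module.Dual k (Coh.HH X F n) where
  toFun φ := t ∘ₗ Canon.HHlin k φ n
  map_add' φ ψ := by rw [H29Serre.lin_add, LinearMap.comp_add]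
  map_smul' a φ := by rw [HHlin_smul, LinearMap.comp_smul]; rfl

theorem pair_bijective {t : Coh.HH X ω n →ₗ[k] k} {F : X.Modules} (h : H29Serre.RepDual t F) :
    Function.Bijective (pair t F) := by
  refine ⟨fun φ φ' e => ?_, fun ψ => ?_⟩
  · obtain ⟨χ, -, hu⟩ := h (pair t F φ)
    exact (hu φ rfl).trans (hu φ' e).symm
  · obtain ⟨φ, hφ, -⟩ := h ψ
    exact ⟨φ, hφ.symm⟩

/-- The connecting map on cohomology. -/
noncomputable def deltaH (q : ℕ) {q' : ℕ} (hq : q + 1 = q') :
    Coh.HH X S.X₃ q →ₗ[k] Coh.HH X S.X₁ q' where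
  toFun x := x.comp (shortExact_sh hS).extClass hq
  map_add' x y := Ext.add_comp _ _ _ _
  map_smul' a x := by
    change (x.comp (Ext.mk₀ _) (add_zero q)).comp (shortExact_sh hS).extClass hq =
      (x.comp (shortExact_sh hS).extClass hq).comp (Ext.mk₀ _) (add_zero q')
    let e : S.map (shF X) ⟶ S.map (shF X) :=
      { τ₁ := Coh.smulAb S.X₁ (Coh.toGlobal (X ↘ Spec (CommRingCat.of k)) a)
        τ₂ := Coh.smulAb S.X₂ (Coh.toGlobal (X ↘ Spec (CommRingCat.of k)) a)
        τ₃ := Coh.smulAb S.X₃ (Coh.toGlobal (X ↘ Spec (CommRingCat.of k)) a)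
        comm₁₂ := (shF_comp_smulAb S.f _).symm
        comm₂₃ := (shF_comp_smulAb S.g _).symm }
    subst hq
    rw [Ext.comp_assoc_of_second_deg_zero, Ext.comp_assoc_of_third_deg_zero]
    exact congrArg (fun z => x.comp z rfl)
      (ShortComplex.ShortExact.extClass_naturality (shortExact_sh hS) (shortExact_sh hS) e).symm

theorem deltaH_injective (q : ℕ) {q' : ℕ} (hq : q + 1 = q') (h : Subsingleton (Coh.HH X S.X₂ q)) :
    Function.Injective (deltaH (k := k) hS q hq) := by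
  rw [injective_iff_map_eq_zero]
  intro x hx
  obtain ⟨y, rfl⟩ := Ext.covariant_sequence_exact₃ _ (shortExact_sh hS) x hq hx
  rw [h.elim y 0]
  exact map_zero ((Ext.mk₀ (S.map (shF X)).g).postcomp _ (add_zero q))

theorem deltaH_bijective (q : ℕ) {q' : ℕ} (hq : q + 1 = q') (h : Subsingleton (Coh.HH X S.X₂ q))
    (h' : Subsingleton (Coh.HH X S.X₂ q')) : Function.Bijective (deltaH (k := k) hS q hq) :=
  ⟨deltaH_injective hS q hq h, fun y => Ext.covariant_sequence_exact₁ _ (shortExact_sh hS) y (h'.elim _ _) hq⟩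

theorem ker_HHlin_f (q : ℕ) {q' : ℕ} (hq : q + 1 = q') (y : Coh.HH X S.X₁ q')
    (hy : Canon.HHlin k S.f q' y = 0) : ∃ x, deltaH (k := k) hS q hq x = y :=
  Ext.covariant_sequence_exact₁ _ (shortExact_sh hS) y hy hq

theorem HHlin_f_deltaH (q : ℕ) {q' : ℕ} (hq : q + 1 = q') (x : Coh.HH X S.X₃ q) :
    Canon.HHlin k S.f q' (deltaH (k := k) hS q hq x) = 0 := by
  change (x.comp (shortExact_sh hS).extClass hq).comp (Ext.mk₀ (S.map (shF X)).f) (add_zero q') = 0
  rw [Ext.comp_assoc_of_third_deg_zero]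
  exact (congrArg (fun z => x.comp z hq) (shortExact_sh hS).extClass_comp).trans (Ext.comp_zero _ _ _ _ _)

include hS in
theorem HHlin_f_injective_zero : Function.Injective (Canon.HHlin k S.f 0) := by
  haveI : Mono (S.map (shF X)).f := (shortExact_sh hS).mono_f
  exact Ext.postcomp_mk₀_injective_of_mono _ (S.map (shF X)).f

variable [HasExt.{u} X.Modules]

/-- The connecting map on Ext in the first variable, out of `Hom`. -/
noncomputable def deltaE : (S.X₁ ⟶ ω) →ₗ[k] Ext.{u} S.X₃ ω 1 :=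
  (Ext.precompOfLinear hS.extClass k ω (a := 0) rfl).comp
    (Ext.linearEquiv₀ (R := k) (X := S.X₁) (Y := ω)).symm.toLinearMap

theorem deltaE_apply (φ : S.X₁ ⟶ ω) : deltaE (k := k) hS φ = hS.extClass.comp (Ext.mk₀ φ) rfl := rfl

include hS in
theorem deltaE_surjective (h : Subsingleton (Ext.{u} S.X₂ ω 1)) :
    Function.Surjective (deltaE (k := k) (ω := ω) hS) := fun z => by
  obtain ⟨y, hy⟩ := Ext.contravariant_sequence_exact₃ hS _ z (h.elim _ _) (n₀ := 0) rfl
  exact ⟨Ext.homEquiv₀ y, by rw [deltaE_apply, Ext.mk₀_homEquiv₀_apply]; exact hy⟩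

include hS in
theorem deltaE_eq_zero_iff (φ : S.X₁ ⟶ ω) :
    deltaE (k := k) hS φ = 0 ↔ ∃ ψ : S.X₂ ⟶ ω, S.f ≫ ψ = φ := by
  constructor
  · intro h
    obtain ⟨y, hy⟩ := Ext.contravariant_sequence_exact₁ hS _ (Ext.mk₀ φ) rfl h
    refine ⟨Ext.homEquiv₀ y, Ext.homEquiv₀.symm.injective ?_⟩
    rw [Ext.homEquiv₀_symm_apply, Ext.homEquiv₀_symm_apply, ← Ext.mk₀_comp_mk₀, Ext.mk₀_homEquiv₀_apply]
    exact hy
  · rintro ⟨ψ, rfl⟩
    rw [deltaE_apply, ← Ext.mk₀_comp_mk₀, ← Ext.comp_assoc _ _ _ (add_zero 1) (zero_add 0) (by omega),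
      ShortComplex.ShortExact.extClass_comp, Ext.zero_comp]

include hS in
/-- The connecting isomorphism on Ext in the first variable. -/
theorem nonempty_ext_step {j : ℕ} {j' : ℕ} (hj : 1 + j = j') (h : Subsingleton (Ext.{u} S.X₂ ω j))
    (h' : Subsingleton (Ext.{u} S.X₂ ω j')) :
    Nonempty (Ext.{u} S.X₁ ω j ≃ₗ[k] Ext.{u} S.X₃ ω j') := by
  refine ⟨LinearEquiv.ofBijective (Ext.precompOfLinear hS.extClass k ω hj) ⟨?_, fun z => ?_⟩⟩
  · rw [injective_iff_map_eq_zero]
    intro y hy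
    obtain ⟨x, rfl⟩ := Ext.contravariant_sequence_exact₁ hS _ y hj hy
    rw [h.elim x 0, Ext.comp_zero]
  · exact Ext.contravariant_sequence_exact₃ hS _ z (h'.elim _ _) hj

include hS in
/-- Degree one. -/
theorem nonempty_ext_one {t : Coh.HH X ω n →ₗ[k] k} (h1 : Subsingleton (Ext.{u} S.X₂ ω 1))
    (hK : H29Serre.RepDual t S.X₁) (hE : H29Serre.RepDual t S.X₂) {q : ℕ} (hq : q + 1 = n)
    (hq' : Subsingleton (Coh.HH X S.X₂ q)) :
    Nonempty (Ext.{u} S.X₃ ω 1 ≃ₗ[k] Module.Dual k (Coh.HH X S.X₃ q)) := by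
  let g : (S.X₁ ⟶ ω) →ₗ[k] Module.Dual k (Coh.HH X S.X₃ q) :=
    (deltaH (k := k) hS q hq).dualMap ∘ₗ pair t S.X₁
  have hg : Function.Surjective g :=
    (LinearMap.dualMap_surjective_of_injective (deltaH_injective hS q hq hq')).comp (pair_bijective hK).2
  refine nonempty_equiv_of_ker (deltaE (k := k) hS) g (deltaE_surjective hS h1) hg fun φ => ?_
  rw [deltaE_eq_zero_iff]
  constructor
  · rintro ⟨ψ, rfl⟩
    refine LinearMap.ext fun x => ?_
    change t (Canon.HHlin k (S.f ≫ ψ) n (deltaH (k := k) hS q hq x)) = 0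
    rw [H29Serre.lin_comp, LinearMap.comp_apply, HHlin_f_deltaH, map_zero, map_zero]
  · intro hφ
    have hker : LinearMap.ker (Canon.HHlin k S.f n) ≤ LinearMap.ker (pair t S.X₁ φ) := fun y hy => by
      obtain ⟨x, rfl⟩ := ker_HHlin_f (k := k) hS q hq y hy
      exact congrArg (fun l : Module.Dual k (Coh.HH X S.X₃ q) => l x) hφ
    obtain ⟨l, hl⟩ : ∃ l, (Canon.HHlin k S.f n).dualMap l = pair t S.X₁ φ := by
      have : pair t S.X₁ φ ∈ LinearMap.range (Canon.HHlin k S.f n).dualMap := by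
        rw [LinearMap.range_dualMap_eq_dualAnnihilator_ker, Submodule.mem_dualAnnihilator]
        exact fun y hy => hker hy
      exact this
    obtain ⟨ψ, rfl⟩ := (pair_bijective hE).2 l
    refine ⟨ψ, (pair_bijective hK).1 ?_⟩
    rw [← hl]
    change t ∘ₗ Canon.HHlin k (S.f ≫ ψ) n = (t ∘ₗ Canon.HHlin k ψ n) ∘ₗ Canon.HHlin k S.f n
    rw [H29Serre.lin_comp, LinearMap.comp_assoc]

include hS in
/-- Degree one above the top. -/
theorem subsingleton_ext_one {t : Coh.HH X ω n →ₗ[k] k} (h1 : Subsingleton (Ext.{u} S.X₂ ω 1))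
    (hK : H29Serre.RepDual t S.X₁) (hE : H29Serre.RepDual t S.X₂) (hn : n = 0) :
    Subsingleton (Ext.{u} S.X₃ ω 1) := by
  subst hn
  refine subsingleton_of_forall_eq 0 fun z => ?_
  obtain ⟨φ, rfl⟩ := deltaE_surjective (k := k) hS h1 z
  rw [deltaE_eq_zero_iff]
  obtain ⟨l, hl⟩ := LinearMap.dualMap_surjective_of_injective (HHlin_f_injective_zero (k := k) hS) (pair t S.X₁ φ)
  obtain ⟨ψ, rfl⟩ := (pair_bijective hE).2 l
  refine ⟨ψ, (pair_bijective hK).1 ?_⟩
  rw [← hl]
  change t ∘ₗ Canon.HHlin k (S.f ≫ ψ) 0 = (t ∘ₗ Canon.HHlin k ψ 0) ∘ₗ Canon.HHlin k S.f 0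
  rw [H29Serre.lin_comp, LinearMap.comp_assoc]

/-- The inductive statement of duality in degree `i`. -/
def DualAt (ω : X.Modules) (n : ℕ) (k : Type u) [Field k] [X.Over (Spec (CommRingCat.of k))] (F : X.Modules)
    (i : ℕ) : Prop :=
  (i ≤ n → Nonempty (Ext.{u} F ω i ≃ₗ[k] Module.Dual k (Coh.HH X F (n - i)))) ∧
    (n < i → Subsingleton (Ext.{u} F ω i))

/-- Ext duality from the top degree and effacement. -/
theorem dualAt (t : Coh.HH X ω n →ₗ[k] k) (C : X.Modules → Prop)
    (hrep : ∀ F, C F → H29Serre.RepDual t F)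
    (hpres : ∀ F, C F → ∃ (S : ShortComplex X.Modules) (_ : S.ShortExact),
      S.X₃ = F ∧ C S.X₁ ∧ C S.X₂ ∧ (∀ i, 0 < i → Subsingleton (Ext.{u} S.X₂ ω i)) ∧
        ∀ q, q < n → Subsingleton (Coh.HH X S.X₂ q))
    (i : ℕ) : ∀ F, C F → DualAt ω n k F i := by
  induction i with
  | zero =>
    intro F hF
    refine ⟨fun _ => ?_, fun h => absurd h (Nat.not_lt_zero n)⟩
    exact ⟨(Ext.linearEquiv₀ (R := k) (X := F) (Y := ω)).trans
      (LinearEquiv.ofBijective (pair t F) (pair_bijective (hrep F hF)))⟩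
  | succ i ih =>
    intro F hF
    obtain ⟨S, hS, rfl, hK, hE, hext, hcoh⟩ := hpres F hF
    rcases Nat.eq_zero_or_pos i with rfl | hi
    · refine ⟨fun h1 => nonempty_ext_one hS (hext 1 one_pos) (hrep _ hK) (hrep _ hE) (by omega) (hcoh _ (by omega)),
        fun h1 => subsingleton_ext_one (k := k) hS (hext 1 one_pos) (hrep _ hK) (hrep _ hE) (by omega)⟩
    obtain ⟨e⟩ := nonempty_ext_step (k := k) (ω := ω) hS (show 1 + i = i + 1 by omega) (hext i hi)
      (hext (i + 1) (Nat.succ_pos i))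
    refine ⟨fun hle => ?_, fun hlt => ?_⟩
    · obtain ⟨e'⟩ := (ih S.X₁ hK).1 (by omega)
      let d := LinearEquiv.ofBijective (deltaH (k := k) hS (n - (i + 1)) (show n - (i + 1) + 1 = n - i by omega))
        (deltaH_bijective hS _ _ (hcoh _ (by omega)) (hcoh _ (by omega)))
      exact ⟨e.symm.trans (e'.trans d.dualMap)⟩
    · rcases Nat.lt_or_ge n i with h | h
      · exact @Equiv.subsingleton _ _ e.symm.toEquiv ((ih S.X₁ hK).2 h)
      · obtain rfl : i = n := by omega
        obtain ⟨e'⟩ := (ih S.X₁ hK).1 le_rfl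
        have hz : Subsingleton (Coh.HH X S.X₁ (i - i)) := by
          rw [Nat.sub_self]
          exact @Function.Injective.subsingleton _ _ _ (HHlin_f_injective_zero (k := k) hS) (hcoh 0 hi)
        exact @Equiv.subsingleton _ _ (e.symm.trans e').toEquiv (by
          refine subsingleton_of_forall_eq 0 fun l => LinearMap.ext fun x => ?_
          rw [hz.elim x 0, map_zero, map_zero])

end Groth.Agent.H17.PnExt
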