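import Groth.Agent.H17.PnExt.Twist
import Groth.Agent.H17.PnExt.Abstract

/-!
# Ext duality on projective space over a field
-/

set_option autoImplicit false
set_option linter.style.haveILetI false

universe u

open CategoryTheory CategoryTheory.Limits CategoryTheory.Abelian AlgebraicGeometry
open Groth.Agent.H10Coh

namespace Groth.Agent.H17.PnExt

attribute [local instance 10000] hasSheafifyAb hasWeakSheafifyAb hasExtAb enoughInjAb

theorem exists_decomp {C : Type*} [Category C] [Preadditive C] {r : ℕ} (G : Fin r → C) [HasCoproduct G] :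
    ∃ p : ∀ i, (∐ G) ⟶ G i, ∑ i, p i ≫ Sigma.ι G i = 𝟙 (∐ G) := by
  classical
  refine ⟨fun i => Sigma.desc fun j => if e : j = i then eqToHom (congrArg G e) else 0, ?_⟩
  refine Sigma.hom_ext _ _ fun j => ?_
  rw [Preadditive.comp_sum, Category.comp_id, Finset.sum_eq_single j ?_ (fun h => (h (Finset.mem_univ j)).elim)]
  · rw [Sigma.ι_desc_assoc, dif_pos rfl, eqToHom_refl, Category.id_comp]
  · intro i _ hi
    rw [Sigma.ι_desc_assoc, dif_neg fun e => hi e.symm, zero_comp]

theorem subsingleton_ext_sigma {C : Type*} [Category C] [Abelian C] [HasExt.{u} C] {r : ℕ} (G : Fin r → C)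
    (Y : C) (i : ℕ) (h : ∀ j, Subsingleton (Ext.{u} (G j) Y i)) : Subsingleton (Ext.{u} (∐ G) Y i) := by
  obtain ⟨p, hp⟩ := exists_decomp G
  refine subsingleton_of_forall_eq 0 fun x => ?_
  let F : ((∐ G) ⟶ (∐ G)) →+ Ext.{u} (∐ G) Y i :=
    AddMonoidHom.mk' (fun f => (Ext.mk₀ f).comp x (zero_add i)) fun f g => by simp [Ext.mk₀_add]
  have hx : F (𝟙 _) = x := by simp [F]
  rw [← hx, ← hp, map_sum]
  refine Finset.sum_eq_zero fun j _ => ?_
  change (Ext.mk₀ (p j ≫ Sigma.ι G j)).comp x (zero_add i) = 0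
  rw [← Ext.mk₀_comp_mk₀_assoc, (h j).elim ((Ext.mk₀ (Sigma.ι G j)).comp x (zero_add i)) 0, Ext.comp_zero]

theorem subsingleton_HH_sigma {k : Type u} [CommRing k] {X : Scheme.{u}} [X.Over (Spec (CommRingCat.of k))]
    {r : ℕ} (G : Fin r → X.Modules) (q : ℕ) (h : ∀ j, Subsingleton (Coh.HH X (G j) q)) :
    Subsingleton (Coh.HH X (∐ G) q) := by
  obtain ⟨p, hp⟩ := exists_decomp G
  refine subsingleton_of_forall_eq 0 fun x => ?_
  have hx := LinearMap.congr_fun ((H29Serre.lin_sum (R := k) (q := q) Finset.univ fun j => p j ≫ Sigma.ι G j).symm.trans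
    ((congrArg (fun f => Canon.HHlin k f q) hp).trans (H29Serre.lin_id _))) x
  rw [LinearMap.id_apply, LinearMap.sum_apply] at hx
  rw [← hx]
  refine Finset.sum_eq_zero fun j _ => ?_
  rw [H29Serre.lin_comp, LinearMap.comp_apply, (h j).elim (Canon.HHlin k (p j) q x) 0, map_zero]

noncomputable local instance overProj (n : ℕ) (R : Type u) [CommRing R] :
    (Proj (Pn.Gr n R)).Over (Spec (CommRingCat.of R)) := ⟨Pn.toS n R⟩

/-- Ext duality on `P^n` over a field. -/
theorem dualAt_projSpace (k : Type u) [Field k] (n : ℕ) [HasExt.{u} (Proj (Pn.Gr n k)).Modules]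
    (F : (Proj (Pn.Gr n k)).Modules) (hF : Coh.IsCoh F) (i : ℕ) :
    DualAt (Pn.Od n k (-((n : ℤ) + 1))) n k F i := by
  haveI : IsNoetherian (Proj (Pn.Gr n k)) := ProjQ.isNoetherian_proj (Pn.Gr n k)
  refine dualAt (H29Serre.trace n k) Coh.IsCoh (fun G hG => H29Serre.repDual_coherent n G hG) (fun G hG => ?_) i F hF
  obtain ⟨r, m, p, hp⟩ := H29Serre.exists_epi_negative (R := k) n G hG
  have hE : Coh.IsCoh (∐ fun _ : Fin r => Pn.Od n k (H29Serre.tw n m)) :=
    isCoh_sigma _ fun _ => ProjQ.isCoh_tilde_twist (Pn.Gr n k) _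
  have htw : H29Serre.tw n m ≤ -((n : ℤ) + 1) := H29Serre.tw_le n m
  refine ⟨ShortComplex.mk (kernel.ι p) p (kernel.condition p),
    { exact := ShortComplex.exact_of_f_is_kernel _ (kernelIsKernel p) }, rfl, isCoh_kernel p hE hG.1, hE,
    fun j hj => subsingleton_ext_sigma _ _ j fun _ => subsingleton_ext_negative n k htw hj,
    fun q hq => subsingleton_HH_sigma (k := k) _ q fun _ => Pn.subsingleton_HH_Od q (by omega) (by omega)⟩

end Groth.Agent.H17.PnExt
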