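import Groth.Agent.H17.PnExt.Main
import Groth.Prelude.Def_Twist2

/-!
# Ext duality, in the language of the prelude
-/

set_option autoImplicit false
set_option linter.style.haveILetI false

universe u

open CategoryTheory CategoryTheory.Abelian AlgebraicGeometry

namespace Groth.Agent.H17.PnExt

theorem od_eq (n : ℕ) (k : Type u) [CommRing k] (d : ℤ) :
    (Twist.twistProjSpace n k d : (CohB1.ProjSpace n k).Modules) = (H10Coh.Pn.Od n k d : _) := rfl

theorem dualAt_twistProjSpace (k : Type u) [Field k] (n : ℕ) [I : HasExt.{u} (CohB1.ProjSpace n k).Modules]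
    (F : (CohB1.ProjSpace n k).Modules) (hF : Coh.IsCoh F) (i : ℕ) :
    DualAt (Twist.twistProjSpace n k (-((n : ℤ) + 1))) n k F i := by
  rw [od_eq]
  exact @dualAt_projSpace k _ n I F hF i

end Groth.Agent.H17.PnExt
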