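import Groth.Agent.H15Site.Invertible
import Groth.Agent.H15Site.ModExtH
import Groth.Agent.H10Coh.ModGroth
import Groth.Agent.H10Inj.SheafExt.ExtAdj
import Groth.Agent.H11Tilde.TwistPow
import Groth.Agent.H10Coh.Pn.Results
import Groth.Prelude.Def_DCoh4

/-!
# Vanishing of higher Ext between twisting sheaves on projective space
-/

set_option synthInstance.maxHeartbeats 800000
set_option maxHeartbeats 1600000
set_option backward.isDefEq.respectTransparency false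

universe u

open CategoryTheory CategoryTheory.Limits CategoryTheory.Abelian AlgebraicGeometry
open Groth.Agent.H11Tilde

namespace Groth.Agent.H17.PnExt

variable (n : ℕ) (R : Type u) [CommRing R]

theorem degOne (x : Proj (H10Coh.Pn.Gr n R)) : ∃ f ∈ H10Coh.Pn.Gr n R 1, f ∉ x.asHomogeneousIdeal := by
  obtain ⟨i, hi⟩ := TopologicalSpace.Opens.mem_iSup.1
    ((H10Coh.Pn.iSup_Us (n := n) (R := R)).ge (show x ∈ ⊤ by trivial))
  exact ⟨MvPolynomial.X i.down, MvPolynomial.isHomogeneous_X R i.down, hi⟩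

theorem nonempty_tensor_od {p q r : ℤ} (h : r = p + q) :
    Nonempty (((DCoh.tensorBi (X := Proj (H10Coh.Pn.Gr n R))).obj (H10Coh.Pn.Od n R p)).obj (H10Coh.Pn.Od n R q) ≅
      H10Coh.Pn.Od n R r) :=
  H11Tilde.nonempty_twist_tensor_iso (H10Coh.Pn.Gr n R) (degOne n R) p q r h

theorem tensor_isEquivalence (a : ℤ) :
    ((DCoh.tensorBi (X := Proj (H10Coh.Pn.Gr n R))).obj (H10Coh.Pn.Od n R a)).IsEquivalence := by
  obtain ⟨e⟩ := nonempty_tensor_od n R (show (0 : ℤ) = a + -a by omega)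
  obtain ⟨e₀⟩ := H11Tilde.nonempty_twist_zero_iso (H10Coh.Pn.Gr n R)
  exact H15Site.Invertible.isEquivalence_of_iso_unit (O := (Proj (H10Coh.Pn.Gr n R)).sheaf)
    (L := H10Coh.Pn.Od n R a) (N := H10Coh.Pn.Od n R (-a)) (e ≪≫ e₀)

variable [HasExt.{u} (Proj (H10Coh.Pn.Gr n R)).Modules]

/-- Higher Ext from `O(a)` to `O(c)` vanishes when the cohomology of `O(c-a)` does. -/
theorem subsingleton_ext {a c : ℤ} (i : ℕ)
    (h : Subsingleton (Coh.HH (Proj (H10Coh.Pn.Gr n R)) (H10Coh.Pn.Od n R (c - a)) i)) :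
    Subsingleton (Ext.{u} (H10Coh.Pn.Od n R a) (H10Coh.Pn.Od n R c) i) := by
  haveI := tensor_isEquivalence n R a
  haveI : IsGrothendieckAbelian.{u} (Proj (H10Coh.Pn.Gr n R)).Modules :=
    H10Coh.isGrothendieckAbelian_sheafOfModules _
  haveI : EnoughInjectives (Proj (H10Coh.Pn.Gr n R)).Modules := inferInstance
  let E := ((DCoh.tensorBi (X := Proj (H10Coh.Pn.Gr n R))).obj (H10Coh.Pn.Od n R a)).asEquivalence
  haveI : E.inverse.Additive := Functor.additive_of_preserves_binary_products _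
  obtain ⟨e₀⟩ := H11Tilde.nonempty_twist_zero_iso (H10Coh.Pn.Gr n R)
  obtain ⟨e₁⟩ := nonempty_tensor_od n R (show a = a + 0 by omega)
  obtain ⟨e₂⟩ := nonempty_tensor_od n R (show c = a + (c - a) by omega)
  let U := Coh.structureModule (Proj (H10Coh.Pn.Gr n R))
  let iso₁ : E.functor.obj U ≅ H10Coh.Pn.Od n R a := E.functor.mapIso e₀.symm ≪≫ e₁
  let iso₂ : E.inverse.obj (H10Coh.Pn.Od n R c) ≅ H10Coh.Pn.Od n R (c - a) :=
    E.inverse.mapIso e₂.symm ≪≫ (E.unitIso.app _).symm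
  obtain ⟨f⟩ := H10Inj.SheafExt.nonempty_ext_adj E.toAdjunction U (H10Coh.Pn.Od n R c) i
  haveI hEI : EnoughInjectives (SheafOfModules.{u} (Proj (H10Coh.Pn.Gr n R)).ringCatSheaf) :=
    ‹EnoughInjectives (Proj (H10Coh.Pn.Gr n R)).Modules›
  haveI hExt : HasExt.{u} (SheafOfModules.{u} (Proj (H10Coh.Pn.Gr n R)).ringCatSheaf) := ‹HasExt.{u} (Proj (H10Coh.Pn.Gr n R)).Modules›
  obtain ⟨g⟩ := H15Site.ModExtH.nonempty_ext_unit_addEquiv (Proj (H10Coh.Pn.Gr n R)).ringCatSheaf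
    (E.inverse.obj (H10Coh.Pn.Od n R c)) i
  haveI := h
  haveI : Subsingleton (Coh.HH (Proj (H10Coh.Pn.Gr n R)) (E.inverse.obj (H10Coh.Pn.Od n R c)) i) :=
    H10Coh.subsingleton_HH_of_iso iso₂.symm i h
  haveI : Subsingleton (Ext.{u} (E.functor.obj U) (H10Coh.Pn.Od n R c) i) := (f.trans g).toEquiv.subsingleton
  refine subsingleton_of_forall_eq 0 fun x => ?_
  have hx : x = (Ext.mk₀ iso₁.inv).comp ((Ext.mk₀ iso₁.hom).comp x (zero_add i)) (zero_add i) := by simp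
  rw [hx, Subsingleton.elim ((Ext.mk₀ iso₁.hom).comp x (zero_add i)) 0, Ext.comp_zero]

theorem subsingleton_ext_negative {a : ℤ} (ha : a ≤ -((n : ℤ) + 1)) {i : ℕ} (hi : 0 < i) :
    Subsingleton (Ext.{u} (H10Coh.Pn.Od n R a) (H10Coh.Pn.Od n R (-((n : ℤ) + 1))) i) :=
  subsingleton_ext n R i (H10Coh.Pn.subsingleton_HH_Od i (by omega) (by omega))

end Groth.Agent.H17.PnExt
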