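import Groth.Agent.H17.PnExt.Shape
import Groth.Agent.H17.PnExt.LocFreeExt

/-!
# Serre duality on `P^r` for finite locally free modules
-/

set_option autoImplicit false
set_option linter.style.haveILetI false

universe u

open CategoryTheory CategoryTheory.Abelian AlgebraicGeometry

namespace Groth.Agent.H17.PnExt

theorem nonempty_dual_sheafHom (k : Type u) [Field k] (r : ℕ) (F : (CohB1.ProjSpace r k).Modules)
    (hF : FlatMod.IsFinLocFree F) [DCoh.HasSheafHom F] (i : ℕ) (hi : i ≤ r) :
    Nonempty (Module.Dual k (Coh.HH (CohB1.ProjSpace r k) F i) ≃ₗ[k]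
      Coh.HH (CohB1.ProjSpace r k) ((DCoh.sheafHom F).obj (Twist.twistProjSpace r k (-((r : ℤ) + 1)))) (r - i)) := by
  haveI : IsGrothendieckAbelian.{u} (CohB1.ProjSpace r k).Modules := H10Coh.isGrothendieckAbelian_sheafOfModules _
  haveI : HasExt.{u} (CohB1.ProjSpace r k).Modules := inferInstance
  have hCoh : Coh.IsCoh F := ⟨H8Props.FinLocFree.isQCoh_of_isFinLocFree F hF, by
    haveI := H8Props.FinLocFree.isFP_of_isFinLocFree F hF
    exact (inferInstance : CohB1.IsFT F)⟩
  obtain ⟨e⟩ := (dualAt_twistProjSpace k r F hCoh (r - i)).1 (Nat.sub_le r i)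
  obtain ⟨e'⟩ := nonempty_ext_linearEquiv (F := F) k hF (Twist.twistProjSpace r k (-((r : ℤ) + 1))) (r - i)
  rw [show r - (r - i) = i by omega] at e
  exact ⟨e.symm.trans e'⟩

end Groth.Agent.H17.PnExt
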